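import Mathlib
import Cfsg.Prelude.Def_Characters
import Cfsg.Agent.Lib.Helper3.Rep

set_option autoImplicit false

/-!
# Irreducible characters: orthonormality, finiteness, decomposition, completeness
-/

namespace Cfsg.Agent.Lib.Helper3

open Module Representation
open scoped ComplexConjugate

section classInner

variable {G : Type*} [Group G] [Fintype G]

theorem classInner_add_left (a b c : G → ℂ) :
    classInner (a + b) c = classInner a c + classInner b c := by
  simp [classInner, add_mul, Finset.sum_add_distrib, mul_add]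

theorem classInner_add_right (a b c : G → ℂ) :
    classInner a (b + c) = classInner a b + classInner a c := by
  simp [classInner, mul_add, Finset.sum_add_distrib]

theorem classInner_sub_left (a b c : G → ℂ) :
    classInner (a - b) c = classInner a c - classInner b c := by
  simp [classInner, sub_mul, Finset.sum_sub_distrib, mul_sub]

theorem classInner_sub_right (a b c : G → ℂ) :
    classInner a (b - c) = classInner a b - classInner a c := by
  simp [classInner, mul_sub, Finset.sum_sub_distrib]

theorem classInner_smul_left (r : ℂ) (a b : G → ℂ) :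
    classInner (r • a) b = r * classInner a b := by
  simp only [classInner, Pi.smul_apply, smul_eq_mul, Finset.mul_sum]
  refine Finset.sum_congr rfl fun g _ => by ring

theorem classInner_smul_right (r : ℂ) (a b : G → ℂ) :
    classInner a (r • b) = conj r * classInner a b := by
  simp only [classInner, Pi.smul_apply, smul_eq_mul, Finset.mul_sum, map_mul]
  refine Finset.sum_congr rfl fun g _ => by ring

@[simp] theorem classInner_zero_left (a : G → ℂ) : classInner 0 a = 0 := by
  simp [classInner]

@[simp] theorem classInner_zero_right (a : G → ℂ) : classInner a 0 = 0 := by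
  simp [classInner]

theorem classInner_sum_left {ι : Type*} (s : Finset ι) (f : ι → G → ℂ) (b : G → ℂ) :
    classInner (∑ i ∈ s, f i) b = ∑ i ∈ s, classInner (f i) b := by
  classical
  induction s using Finset.induction_on with
  | empty => simp
  | insert i s hi ih => rw [Finset.sum_insert hi, Finset.sum_insert hi, classInner_add_left, ih]

theorem classInner_sum_right {ι : Type*} (s : Finset ι) (f : ι → G → ℂ) (b : G → ℂ) :
    classInner b (∑ i ∈ s, f i) = ∑ i ∈ s, classInner b (f i) := by
  classical
  induction s using Finset.induction_on with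
  | empty => simp
  | insert i s hi ih => rw [Finset.sum_insert hi, Finset.sum_insert hi, classInner_add_right, ih]

theorem classInner_conj_symm (a b : G → ℂ) : conj (classInner a b) = classInner b a := by
  simp only [classInner, map_mul, map_inv₀, Complex.conj_natCast, map_sum, Complex.conj_conj]
  congr 1
  refine Finset.sum_congr rfl fun g _ => by ring

theorem classInner_self_eq_zero {a : G → ℂ} (h : classInner a a = 0) : a = 0 := by
  have hc : (Nat.card G : ℂ) ≠ 0 := by exact_mod_cast Nat.card_pos.ne'
  simp only [classInner, mul_eq_zero, inv_eq_zero, hc, false_or] at h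
  have h2 : ∑ g : G, (‖a g‖ ^ 2 : ℝ) = 0 := by
    have : ((∑ g : G, (‖a g‖ ^ 2 : ℝ) : ℝ) : ℂ) = 0 := by
      rw [← h]
      push_cast
      refine Finset.sum_congr rfl fun g _ => ?_
      rw [Complex.mul_conj, Complex.normSq_eq_norm_sq]
      push_cast; rfl
    exact_mod_cast this
  rw [Finset.sum_eq_zero_iff_of_nonneg (fun g _ => by positivity)] at h2
  ext g
  simpa using h2 g (Finset.mem_univ g)

end classInner

section chars

variable {G : Type*} [Group G]

theorem IsIrrCharacter.isCharacter {χ : G → ℂ} (h : IsIrrCharacter G χ) : IsCharacter G χ := by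
  obtain ⟨n, ρ, _, h⟩ := h
  exact ⟨n, ρ, h⟩

theorem IsCharacter.isClassFunction {χ : G → ℂ} (h : IsCharacter G χ) : IsClassFunction G χ := by
  obtain ⟨n, ρ, rfl⟩ := h
  intro g h
  exact char_conj ρ g h

theorem IsCharacter.add {χ ψ : G → ℂ} (h1 : IsCharacter G χ) (h2 : IsCharacter G ψ) :
    IsCharacter G (χ + ψ) := by
  obtain ⟨n, ρ, rfl⟩ := h1
  obtain ⟨m, σ, rfl⟩ := h2
  rw [← char_prod]
  exact isCharacter_of_rep _

theorem IsCharacter.mul {χ ψ : G → ℂ} (h1 : IsCharacter G χ) (h2 : IsCharacter G ψ) :
    IsCharacter G (χ * ψ) := by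
  obtain ⟨n, ρ, rfl⟩ := h1
  obtain ⟨m, σ, rfl⟩ := h2
  rw [← char_tensor]
  exact isCharacter_of_rep _

theorem isCharacter_zero : IsCharacter G (0 : G → ℂ) := by
  refine ⟨0, 1, ?_⟩
  ext g
  simp [Representation.character]

theorem isCharacter_one : IsCharacter G (1 : G → ℂ) := by
  have := isCharacter_of_rep (Representation.trivial ℂ G ℂ)
  convert this using 1
  ext g
  simp [Representation.character]

theorem IsCharacter.nsmul {χ : G → ℂ} (h : IsCharacter G χ) (n : ℕ) : IsCharacter G (n • χ) := by
  induction n with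
  | zero => simpa using isCharacter_zero
  | succ n ih => rw [succ_nsmul]; exact IsCharacter.add ih h

theorem IsCharacter.sum {ι : Type*} (s : Finset ι) (f : ι → G → ℂ)
    (h : ∀ i ∈ s, IsCharacter G (f i)) : IsCharacter G (∑ i ∈ s, f i) := by
  classical
  induction s using Finset.induction_on with
  | empty => simpa using isCharacter_zero
  | insert i s hi ih =>
    rw [Finset.sum_insert hi]
    exact IsCharacter.add (h i (Finset.mem_insert_self i s))
      (ih fun j hj => h j (Finset.mem_insert_of_mem hj))

theorem IsCharacter.comp_hom {H : Type*} [Group H] {χ : G → ℂ} (h : IsCharacter G χ) (f : H →* G) :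
    IsCharacter H (χ ∘ f) := by
  obtain ⟨n, ρ, rfl⟩ := h
  exact ⟨n, ρ.comp f, rfl⟩

theorem IsCharacter.restrict {χ : G → ℂ} (h : IsCharacter G χ) (H : Subgroup G) :
    IsCharacter H (fun x : H => χ x) := IsCharacter.comp_hom h H.subtype

theorem IsCharacter.apply_one_eq_natCast {χ : G → ℂ} (h : IsCharacter G χ) :
    ∃ n : ℕ, χ 1 = n := by
  obtain ⟨n, ρ, rfl⟩ := h
  exact ⟨_, char_one ρ⟩

theorem IsIrrCharacter.apply_one_ne_zero {χ : G → ℂ} (h : IsIrrCharacter G χ) : χ 1 ≠ 0 := by
  obtain ⟨n, ρ, hirr, rfl⟩ := h
  rw [char_one]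
  have := ((isIrreducible_iff ρ).mp hirr).1
  exact_mod_cast (Module.finrank_pos (R := ℂ) (M := Fin n → ℂ)).ne'

theorem IsCharacter.apply_inv [Finite G] {χ : G → ℂ} (h : IsCharacter G χ) (g : G) :
    χ g⁻¹ = conj (χ g) := by
  obtain ⟨n, ρ, rfl⟩ := h
  exact char_inv_eq_conj ρ g

theorem IsCharacter.conj [Finite G] {χ : G → ℂ} (h : IsCharacter G χ) :
    IsCharacter G (fun g => conj (χ g)) := by
  obtain ⟨n, ρ, rfl⟩ := h
  have := isCharacter_of_rep ρ.dual
  convert this using 1
  ext g
  rw [char_dual, char_inv_eq_conj]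

theorem IsCharacter.isIntegral [Finite G] {χ : G → ℂ} (h : IsCharacter G χ) (g : G) :
    IsIntegral ℤ (χ g) := by
  obtain ⟨n, ρ, rfl⟩ := h
  exact isIntegral_char ρ g

end chars

section orth

variable {G : Type*} [Group G] [Fintype G]

theorem classInner_char_eq_finrank {V W : Type*} [AddCommGroup V] [Module ℂ V]
    [FiniteDimensional ℂ V] [AddCommGroup W] [Module ℂ W] [FiniteDimensional ℂ W]
    (ρ : Representation ℂ G V) (σ : Representation ℂ G W) :
    classInner σ.character ρ.character = finrank ℂ (IntertwiningMap ρ σ) := by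
  have hc : (Nat.card G : ℂ) ≠ 0 := by exact_mod_cast Nat.card_pos.ne'
  let _ : Invertible (Nat.card G : ℂ) := invertibleOfNonzero hc
  rw [← card_inv_mul_sum_char_mul_char_eq_finrank ρ σ, classInner]
  congr 1
  refine Finset.sum_congr rfl fun g _ => ?_
  rw [char_inv_eq_conj]

theorem classInner_irr_rep_aux {V W : Type*} [AddCommGroup V] [Module ℂ V]
    [FiniteDimensional ℂ V] [AddCommGroup W] [Module ℂ W] [FiniteDimensional ℂ W]
    (ρ : Representation ℂ G V) (σ : Representation ℂ G W) [ρ.IsIrreducible] [σ.IsIrreducible]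
    [Decidable (Nonempty (Representation.Equiv σ ρ))] :
    classInner ρ.character σ.character = if Nonempty (Representation.Equiv σ ρ) then 1 else 0 := by
  have hc : (Nat.card G : ℂ) ≠ 0 := by exact_mod_cast Nat.card_pos.ne'
  let _ : Invertible (Nat.card G : ℂ) := invertibleOfNonzero hc
  have := char_orthonormal ρ σ
  rw [classInner]
  convert this using 3
  rw [char_inv_eq_conj]

theorem classInner_irr_rep {V W : Type*} [AddCommGroup V] [Module ℂ V]
    [FiniteDimensional ℂ V] [AddCommGroup W] [Module ℂ W] [FiniteDimensional ℂ W]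
    (ρ : Representation ℂ G V) (σ : Representation ℂ G W) [ρ.IsIrreducible] [σ.IsIrreducible]
    [Decidable (ρ.character = σ.character)] :
    classInner ρ.character σ.character = if ρ.character = σ.character then 1 else 0 := by
  classical
  by_cases h : ρ.character = σ.character
  · rw [if_pos h, ← h, classInner_irr_rep_aux ρ ρ, if_pos ⟨Representation.Equiv.refl ρ⟩]
  · rw [if_neg h, classInner_irr_rep_aux ρ σ, if_neg]
    rintro ⟨φ⟩
    exact h (char_iso φ).symm

theorem classInner_irr {χ ψ : G → ℂ} (hχ : IsIrrCharacter G χ) (hψ : IsIrrCharacter G ψ)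
    [Decidable (χ = ψ)] : classInner χ ψ = if χ = ψ then 1 else 0 := by
  obtain ⟨n, ρ, h1, rfl⟩ := hχ
  obtain ⟨m, σ, h2, rfl⟩ := hψ
  exact classInner_irr_rep ρ σ

theorem classInner_irr_self {χ : G → ℂ} (hχ : IsIrrCharacter G χ) : classInner χ χ = 1 := by
  classical
  rw [classInner_irr hχ hχ, if_pos rfl]

theorem classInner_irr_ne {χ ψ : G → ℂ} (hχ : IsIrrCharacter G χ) (hψ : IsIrrCharacter G ψ)
    (h : χ ≠ ψ) : classInner χ ψ = 0 := by
  classical
  rw [classInner_irr hχ hψ, if_neg h]

end orth

theorem linearIndependent_irr {G : Type*} [Group G] [Finite G] :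
    LinearIndependent ℂ (fun χ : IrrCharacter G => (χ : G → ℂ)) := by
  classical
  have := Fintype.ofFinite G
  rw [linearIndependent_iff']
  intro s c hc χ hχ
  have h1 := congrArg (fun f => classInner f (χ : G → ℂ)) hc
  simp only [classInner_sum_left, classInner_smul_left, classInner_zero_left] at h1
  rw [Finset.sum_eq_single χ] at h1
  · simpa [classInner_irr_self χ.2] using h1
  · intro ψ _ hne
    rw [classInner_irr_ne ψ.2 χ.2 (fun h => hne (Subtype.ext h)), mul_zero]
  · intro h; exact absurd hχ h

instance finite_irrCharacter {G : Type*} [Group G] [Finite G] : Finite (IrrCharacter G) := by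
  have := Fintype.ofFinite G
  exact (linearIndependent_irr (G := G)).finite

end Cfsg.Agent.Lib.Helper3
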