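import Mathlib
import Cfsg.Prelude.Def_Characters
import Cfsg.Agent.Lib.Helper3.Table

set_option autoImplicit false

/-!
# Generalized characters of small norm
-/

namespace Cfsg.Agent.Lib.Helper3

open scoped ComplexConjugate

variable {G : Type*} [Group G] [Fintype G]

/-- The norm of a generalized character in terms of its integer coefficients. -/
theorem classInner_self_eq_sum_sq [Fintype (IrrCharacter G)] {Δ : G → ℂ}
    (hcf : IsClassFunction G Δ) (z : IrrCharacter G → ℤ)
    (hz : ∀ ψ : IrrCharacter G, classInner Δ ψ = z ψ) :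
    classInner Δ Δ = ((∑ ψ, z ψ ^ 2 : ℤ) : ℂ) := by
  rw [classInner_eq_sum_coeff hcf]
  push_cast
  refine Finset.sum_congr rfl fun ψ _ => ?_
  rw [← classInner_conj_symm Δ, hz]
  simp [sq]

/-- A generalized character of norm `2` vanishing at `1` is a difference of two distinct
irreducible characters. -/
theorem exists_irr_sub_irr_of_norm_two {Δ : G → ℂ} (hΔ : IsGeneralizedCharacter G Δ)
    (hnorm : classInner Δ Δ = 2) (h1 : Δ 1 = 0) :
    ∃ α β : G → ℂ, IsIrrCharacter G α ∧ IsIrrCharacter G β ∧ α ≠ β ∧ Δ = α - β := by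
  classical
  have := Fintype.ofFinite (IrrCharacter G)
  obtain ⟨hcf, hz⟩ := isGeneralizedCharacter_iff.mp hΔ
  choose z hz using hz
  have hsum : ∑ ψ, z ψ ^ 2 = 2 := by
    have := classInner_self_eq_sum_sq hcf z hz
    rw [hnorm] at this
    exact_mod_cast this.symm
  have hexp : Δ = ∑ ψ : IrrCharacter G, (z ψ : ℂ) • (ψ : G → ℂ) := by
    conv_lhs => rw [classFunction_expansion hcf]
    exact Finset.sum_congr rfl fun ψ _ => by rw [hz]
  have hexα : ∃ α, z α ≠ 0 := by
    by_contra hcon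
    push Not at hcon
    simp [hcon] at hsum
  obtain ⟨α, hα⟩ := hexα
  have hsq : ∀ x : ℤ, x ≠ 0 → x ^ 2 ≤ 2 → x ^ 2 = 1 ∧ (x = 1 ∨ x = -1) := by
    intro x hx0 hx
    have h1 : x ≤ 1 := by nlinarith
    have h2 : -1 ≤ x := by nlinarith
    have h3 : x = 1 ∨ x = -1 := by omega
    rcases h3 with rfl | rfl <;> simp
  have hs1 := Finset.add_sum_erase Finset.univ (fun ψ => z ψ ^ 2) (Finset.mem_univ α)
  rw [hsum] at hs1
  have hnn1 : 0 ≤ ∑ ψ ∈ Finset.univ.erase α, z ψ ^ 2 := Finset.sum_nonneg fun ψ _ => sq_nonneg _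
  obtain ⟨hα2, hαpm⟩ := hsq (z α) hα (by linarith)
  have hs2 : ∑ ψ ∈ Finset.univ.erase α, z ψ ^ 2 = 1 := by linarith
  have hexβ : ∃ β ∈ Finset.univ.erase α, z β ≠ 0 := by
    by_contra hcon
    push Not at hcon
    rw [Finset.sum_eq_zero (fun ψ hψ => by rw [hcon ψ hψ]; simp)] at hs2
    exact zero_ne_one hs2
  obtain ⟨β, hβmem, hβ⟩ := hexβ
  have hs3 := Finset.add_sum_erase (Finset.univ.erase α) (fun ψ => z ψ ^ 2) hβmem
  rw [hs2] at hs3
  have hnn2 : 0 ≤ ∑ ψ ∈ (Finset.univ.erase α).erase β, z ψ ^ 2 :=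
    Finset.sum_nonneg fun ψ _ => sq_nonneg _
  obtain ⟨hβ2, hβpm⟩ := hsq (z β) hβ (by linarith)
  have hs4 : ∑ ψ ∈ (Finset.univ.erase α).erase β, z ψ ^ 2 = 0 := by linarith
  have hrest : ∀ ψ ∈ (Finset.univ.erase α).erase β, z ψ = 0 := by
    intro ψ hψ
    have := (Finset.sum_eq_zero_iff_of_nonneg (fun ψ _ => sq_nonneg (z ψ))).mp hs4 ψ hψ
    exact pow_eq_zero_iff (two_ne_zero) |>.mp this
  have hαβ : β ≠ α := Finset.ne_of_mem_erase hβmem
  have hΔ2 : Δ = (z α : ℂ) • (α : G → ℂ) + (z β : ℂ) • (β : G → ℂ) := by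
    rw [hexp, ← Finset.add_sum_erase Finset.univ _ (Finset.mem_univ α),
      ← Finset.add_sum_erase (Finset.univ.erase α) _ hβmem,
      Finset.sum_eq_zero (fun ψ hψ => by rw [hrest ψ hψ]; simp), add_zero]
  obtain ⟨a, ha⟩ := IsCharacter.apply_one_eq_natCast (IsIrrCharacter.isCharacter α.2)
  obtain ⟨b, hb⟩ := IsCharacter.apply_one_eq_natCast (IsIrrCharacter.isCharacter β.2)
  have ha0 : a ≠ 0 := by
    rintro rfl
    exact IsIrrCharacter.apply_one_ne_zero α.2 (by rw [ha]; simp)
  have hb0 : b ≠ 0 := by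
    rintro rfl
    exact IsIrrCharacter.apply_one_ne_zero β.2 (by rw [hb]; simp)
  have hdeg : z α * a + z β * b = 0 := by
    have := congrFun hΔ2 1
    rw [h1] at this
    simp only [Pi.add_apply, Pi.smul_apply, smul_eq_mul, ha, hb] at this
    exact_mod_cast this.symm
  have hne : (α : G → ℂ) ≠ (β : G → ℂ) := fun h => hαβ (Subtype.ext h).symm
  rcases hαpm with h | h <;> rcases hβpm with h' | h'
  · exfalso; rw [h, h'] at hdeg; omega
  · refine ⟨α, β, α.2, β.2, hne, ?_⟩
    rw [hΔ2, h, h']; simp [sub_eq_add_neg]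
  · refine ⟨β, α, β.2, α.2, hne.symm, ?_⟩
    rw [hΔ2, h, h']; simp [sub_eq_add_neg, add_comm]
  · exfalso; rw [h, h'] at hdeg; omega

/-- Combinatorial lemma behind exceptional characters. -/
theorem forall_eq_or_forall_eq {I T : Type*} (α β : I → T)
    (h : ∀ k l, k ≠ l → (α k = α l ∧ β k ≠ β l) ∨ (α k ≠ α l ∧ β k = β l)) :
    (∀ k l, α k = α l) ∨ (∀ k l, β k = β l) := by
  by_contra hcon
  push Not at hcon
  obtain ⟨⟨k, l, hkl⟩, ⟨k', l', hkl'⟩⟩ := hcon
  have hne' : k' ≠ l' := fun h => hkl' (by rw [h])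
  have hα' : α k' = α l' := by
    rcases h k' l' hne' with h1 | h1
    · exact h1.1
    · exact absurd h1.2 hkl'
  have key : ∀ m, α m ≠ α k' → False := by
    intro m hm
    have hmk : m ≠ k' := fun h => hm (by rw [h])
    have hml : m ≠ l' := fun h => hm (by rw [h, hα'])
    have h1 : β m = β k' := by
      rcases h m k' hmk with h2 | h2
      · exact absurd h2.1 hm
      · exact h2.2
    have h3 : β m = β l' := by
      rcases h m l' hml with h2 | h2
      · exact absurd h2.1 (by rw [← hα']; exact hm)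
      · exact h2.2
    exact hkl' (h1.symm.trans h3)
  by_cases hk : α k = α k'
  · exact key l (fun h => hkl (hk.trans h.symm))
  · exact key k hk

/-- Two differences of irreducible characters with inner product one share exactly one term. -/
theorem share_of_classInner_eq_one {a b c d : G → ℂ} (ha : IsIrrCharacter G a)
    (hb : IsIrrCharacter G b) (hc : IsIrrCharacter G c) (hd : IsIrrCharacter G d) (hab : a ≠ b)
    (hcd : c ≠ d) (h : classInner (a - b) (c - d) = 1) :
    (a = c ∧ b ≠ d) ∨ (a ≠ c ∧ b = d) := by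
  classical
  rw [classInner_sub_left, classInner_sub_right, classInner_sub_right, classInner_irr ha hc,
    classInner_irr ha hd, classInner_irr hb hc, classInner_irr hb hd] at h
  by_cases h1 : a = c <;> by_cases h2 : b = d
  · exfalso
    have h3 : a ≠ d := fun h => hcd (h1.symm.trans h)
    have h4 : b ≠ c := fun h => hab (h1.trans h.symm)
    rw [if_pos h1, if_pos h2, if_neg h3, if_neg h4] at h
    norm_num at h
  · exact Or.inl ⟨h1, h2⟩
  · exact Or.inr ⟨h1, h2⟩
  · exfalso
    rw [if_neg h1, if_neg h2] at h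
    split_ifs at h <;> norm_num at h

end Cfsg.Agent.Lib.Helper3
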