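import Mathlib
import Cfsg.Agent.Lib.Helper75.TIC2
import Cfsg.Agent.Lib.Helper75.BSW12

/-!
# Bender's TI counting lemma: `M` elementary abelian (piece [A4] of helper75's farm)
-/

set_option autoImplicit false
set_option linter.unusedSectionVars false
set_option linter.unusedVariables false

namespace Cfsg.Agent.Lib.Helper3.Bend

open Cfsg.Agent.Lib.Helper75.Bend Cfsg.Agent.Lib.Helper75 Cfsg.Agent.Lib.Helper75.BSW

variable {G : Type*} [Group G] [Finite G] {M : Subgroup G} {z : G}

theorem free_D (h : TIS M z) {u : G} (huz : u * z = z * u)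
    (huN : u ∉ Subgroup.normalizer (M : Set G)) :
    ∀ k ∈ Subgroup.normalizer (M : Set G) ⊓ Subgroup.centralizer ({z} : Set G),
      ∀ d ∈ M, d ≠ 1 → k * d * k⁻¹ = d → k = 1 := by
  intro k hk d hd hd1 he
  have hkN := (Subgroup.mem_inf.1 hk).1
  have hkz : k * z = z * k := Subgroup.mem_centralizer_singleton_iff.1 (Subgroup.mem_inf.1 hk).2
  have hu := h.invol_of_comm huz huN
  have hinv := h.inverts_of_comm huz huN hkN hkz
  apply h.free hu huN hkN (by rw [hinv]; exact Subgroup.inv_mem _ hkN) hd hd1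
  exact mul_inv_eq_iff_eq_mul.1 he

theorem card_D_dvd (h : TIS M z) {u : G} (huz : u * z = z * u)
    (huN : u ∉ Subgroup.normalizer (M : Set G)) :
    Nat.card ↥(Subgroup.normalizer (M : Set G) ⊓ Subgroup.centralizer ({z} : Set G)) ∣
      Nat.card M - 1 :=
  card_dvd_sub_one_of_free _ _ inf_le_left (free_D h huz huN)

theorem pow_eq_one_of_half (h : TIS M z) {u : G} (huz : u * z = z * u)
    (huN : u ∉ Subgroup.normalizer (M : Set G)) (p f : ℕ) (hp : p.Prime)
    (hcard : Nat.card M = p ^ f)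
    (hhalf : Nat.card M - 1 ≤ 2 * Nat.card ↥(Subgroup.normalizer (M : Set G) ⊓
      Subgroup.centralizer ({z} : Set G))) : ∀ x ∈ M, x ^ p = 1 := by
  have hpf : Fact p.Prime := ⟨hp⟩
  let Mp : Subgroup G :=
    { carrier := {x | x ∈ M ∧ x ^ p = 1}
      mul_mem' := by
        rintro a b ⟨ha, ha'⟩ ⟨hb, hb'⟩
        refine ⟨M.mul_mem ha hb, ?_⟩
        have hc : Commute a b := h.tic.comm a ha b hb
        rw [hc.mul_pow, ha', hb', one_mul]
      one_mem' := ⟨M.one_mem, one_pow _⟩
      inv_mem' := by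
        rintro a ⟨ha, ha'⟩
        exact ⟨M.inv_mem ha, by rw [inv_pow, ha', inv_one]⟩ }
  have hmem : ∀ x, x ∈ Mp ↔ x ∈ M ∧ x ^ p = 1 := fun x => Iff.rfl
  have hle : Mp ≤ M := fun x hx => hx.1
  have hM1 : 1 < Nat.card M := by
    rw [Subgroup.one_lt_card_iff_ne_bot]; exact h.tic.ne
  have hf : f ≠ 0 := by
    rintro rfl
    rw [pow_zero] at hcard
    omega
  have hpM : p ∣ Nat.card M := by rw [hcard]; exact dvd_pow_self p hf
  obtain ⟨x, hx⟩ := exists_prime_orderOf_dvd_card' p hpM
  have hxp : (x : G) ^ p = 1 := by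
    have : x ^ p = 1 := by rw [← hx]; exact pow_orderOf_eq_one x
    have := congrArg Subtype.val this
    simpa using this
  have hx1 : (x : G) ≠ 1 := by
    intro e
    have : x = 1 := Subtype.ext e
    rw [this, orderOf_one] at hx
    exact hp.one_lt.ne hx
  have hMp1 : 1 < Nat.card Mp := by
    rw [Subgroup.one_lt_card_iff_ne_bot]
    intro e
    have : (x : G) ∈ Mp := ⟨x.2, hxp⟩
    rw [e, Subgroup.mem_bot] at this
    exact hx1 this
  have hdvd : Nat.card Mp ∣ p ^ f := by rw [← hcard]; exact Subgroup.card_dvd_of_le hle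
  obtain ⟨j, hj, hjc⟩ := (Nat.dvd_prime_pow hp).1 hdvd
  have hDN : Subgroup.normalizer (M : Set G) ⊓ Subgroup.centralizer ({z} : Set G) ≤
      Subgroup.normalizer (Mp : Set G) := by
    intro k hk
    have hkN := (Subgroup.mem_inf.1 hk).1
    rw [Subgroup.mem_normalizer_iff]
    intro y
    constructor
    · rintro ⟨hy, hy'⟩
      refine ⟨conj_mem hkN hy, ?_⟩
      rw [conj_pow, hy']; group
    · rintro ⟨hy, hy'⟩
      refine ⟨?_, ?_⟩
      · have := conj_mem' hkN hy
        have e : k⁻¹ * (k * y * k⁻¹) * k = y := by group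
        rwa [e] at this
      · rw [conj_pow] at hy'
        have e : y ^ p = k⁻¹ * (k * y ^ p * k⁻¹) * k := by group
        rw [e, hy']; group
  have hD : Nat.card ↥(Subgroup.normalizer (M : Set G) ⊓ Subgroup.centralizer ({z} : Set G)) ∣
      Nat.card Mp - 1 := by
    apply card_dvd_sub_one_of_free _ _ hDN
    intro k hk d hd hd1 he
    exact free_D h huz huN k hk d hd.1 hd1 he
  have hDle := Nat.le_of_dvd (by omega) hD
  rcases Nat.lt_or_ge j f with hlt | hge
  · exfalso
    have e1 : p ^ f = p ^ j * p ^ (f - j) := by rw [← pow_add]; congr 1; omega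
    have e2 : 2 ≤ p ^ (f - j) := by
      calc 2 ≤ p := hp.two_le
        _ = p ^ 1 := (pow_one p).symm
        _ ≤ p ^ (f - j) := Nat.pow_le_pow_right hp.pos (by omega)
    have e3 : 2 * Nat.card Mp ≤ Nat.card M := by
      rw [hcard, hjc, e1]
      nlinarith [Nat.pos_of_ne_zero (pow_ne_zero j hp.ne_zero)]
    omega
  · have hjf : j = f := le_antisymm hj hge
    have heq : Mp = M := by
      apply Subgroup.eq_of_le_of_card_ge hle
      rw [hcard, hjc, hjf]
    intro y hy
    rw [← heq] at hy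
    exact hy.2

end Cfsg.Agent.Lib.Helper3.Bend
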