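import Mathlib
import Cfsg.Agent.Lib.Helper75.TIC2

/-!
# Bender's TI counting lemma: three counting formulas (piece [F] of helper75's farm)
-/

set_option autoImplicit false
set_option linter.unusedSectionVars false
set_option linter.unusedVariables false

namespace Cfsg.Agent.Lib.Helper3.Bend

open Cfsg.Agent.Lib.Helper75.Bend Cfsg.Agent.Lib.Helper75 Cfsg.Agent.Lib.Helper75.BSW

theorem card_split {α : Type*} [Finite α] (p q : α → Prop) :
    Nat.card {g // p g} = Nat.card {g // p g ∧ q g} + Nat.card {g // p g ∧ ¬ q g} := by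
  classical
  have := Fintype.ofFinite α
  simp only [Nat.card_eq_fintype_card, Fintype.card_subtype]
  rw [← Finset.filter_filter, ← Finset.filter_filter]
  exact (Finset.card_filter_add_card_filter_not _).symm

theorem card_split' {α : Type*} [Finite α] (q : α → Prop) :
    Nat.card α = Nat.card {g // q g} + Nat.card {g // ¬ q g} := by
  classical
  rw [← Nat.card_sum]
  exact Nat.card_congr (Equiv.sumCompl q).symm

variable {G : Type*} [Group G] [Finite G] {M : Subgroup G} {z : G}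

theorem card_N (h : TIC M z) : Nat.card ↥(Subgroup.normalizer (M : Set G)) =
    Nat.card M * Nat.card ↥(Subgroup.normalizer (M : Set G) ⊓
      Subgroup.centralizer ({z} : Set G)) := by
  rw [← Nat.card_prod]
  symm
  apply Nat.card_congr
  refine Equiv.ofBijective (fun p => ⟨p.1.1 * p.2.1,
    Subgroup.mul_mem _ (le_N p.1.2) (Subgroup.mem_inf.1 p.2.2).1⟩) ⟨?_, ?_⟩
  · rintro ⟨⟨m, hm⟩, ⟨c, hc⟩⟩ ⟨⟨m', hm'⟩, ⟨c', hc'⟩⟩ he
    have he' : m * c = m' * c' := congrArg Subtype.val he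
    have hcz : c * z = z * c := Subgroup.mem_centralizer_singleton_iff.1 (Subgroup.mem_inf.1 hc).2
    have hcz' : c' * z = z * c' :=
      Subgroup.mem_centralizer_singleton_iff.1 (Subgroup.mem_inf.1 hc').2
    have e1 : m'⁻¹ * m = c' * c⁻¹ := by
      calc m'⁻¹ * m = m'⁻¹ * (m * c) * c⁻¹ := by group
        _ = m'⁻¹ * (m' * c') * c⁻¹ := by rw [he']
        _ = c' * c⁻¹ := by group
    have e2 : z * (m'⁻¹ * m) = (m'⁻¹ * m) * z := by
      rw [e1]
      calc z * (c' * c⁻¹) = (z * c') * c⁻¹ := by group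
        _ = (c' * z) * c⁻¹ := by rw [hcz']
        _ = c' * c⁻¹ * (c * z) * c⁻¹ := by group
        _ = c' * c⁻¹ * (z * c) * c⁻¹ := by rw [hcz]
        _ = c' * c⁻¹ * z := by group
    have e3 := h.eq_one_of_comm (M.mul_mem (M.inv_mem hm') hm) h.hz e2
    have e4 : m = m' := (inv_mul_eq_one.1 e3).symm
    subst e4
    have e5 : c = c' := mul_left_cancel he'
    subst e5
    rfl
  · rintro ⟨n, hn⟩
    obtain ⟨m, hm, c, hcN, hcz, rfl⟩ := h.fac n hn
    exact ⟨⟨⟨m, hm⟩, ⟨c, Subgroup.mem_inf.2 ⟨hcN, Subgroup.mem_centralizer_singleton_iff.2 hcz⟩⟩⟩,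
      rfl⟩

theorem card_G (h : TIS M z) : Nat.card G + Nat.card M ^ 2 *
      Nat.card ↥(Subgroup.normalizer (M : Set G) ⊓ Subgroup.centralizer ({z} : Set G)) =
    Nat.card ↥(Subgroup.normalizer (M : Set G)) +
      Nat.card M ^ 2 * Nat.card ↥(Subgroup.centralizer ({z} : Set G)) := by
  have h1 : Nat.card G = Nat.card ↥(Subgroup.normalizer (M : Set G)) +
      Nat.card {g : G // g ∉ Subgroup.normalizer (M : Set G)} :=
    card_split' (fun g : G => g ∈ Subgroup.normalizer (M : Set G))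
  have h2 : Nat.card ↥(Subgroup.centralizer ({z} : Set G)) =
      Nat.card ↥(Subgroup.normalizer (M : Set G) ⊓ Subgroup.centralizer ({z} : Set G)) +
      Nat.card {w : G // w * z = z * w ∧ w ∉ Subgroup.normalizer (M : Set G)} := by
    have e1 : Nat.card ↥(Subgroup.centralizer ({z} : Set G)) = Nat.card {w : G // w * z = z * w} :=
      Nat.card_congr (Equiv.subtypeEquivRight
        (fun g => Subgroup.mem_centralizer_singleton_iff))
    have e2 : Nat.card ↥(Subgroup.normalizer (M : Set G) ⊓ Subgroup.centralizer ({z} : Set G)) =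
        Nat.card {w : G // w * z = z * w ∧ w ∈ Subgroup.normalizer (M : Set G)} :=
      Nat.card_congr (Equiv.subtypeEquivRight (fun g => by
        rw [Subgroup.mem_inf, Subgroup.mem_centralizer_singleton_iff, and_comm]))
    rw [e1, e2]
    exact card_split _ _
  have h3 : Nat.card {g : G // g ∉ Subgroup.normalizer (M : Set G)} =
      Nat.card M * Nat.card {w : G // w * z = z * w ∧ w ∉ Subgroup.normalizer (M : Set G)} *
        Nat.card M := by
    rw [← Nat.card_prod, ← Nat.card_prod]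
    symm
    apply Nat.card_congr
    refine Equiv.ofBijective (fun p => ⟨p.1.1.1 * p.1.2.1 * p.2.1, ?_⟩) ⟨?_, ?_⟩
    · intro hcon
      apply p.1.2.2.2
      have e : p.1.2.1 = p.1.1.1⁻¹ * (p.1.1.1 * p.1.2.1 * p.2.1) * p.2.1⁻¹ := by group
      rw [e]
      exact Subgroup.mul_mem _ (Subgroup.mul_mem _ (Subgroup.inv_mem _ (le_N p.1.1.2)) hcon)
        (Subgroup.inv_mem _ (le_N p.2.2))
    · rintro ⟨⟨⟨a, ha⟩, ⟨w, hw, hwN⟩⟩, ⟨b, hb⟩⟩ ⟨⟨⟨a', ha'⟩, ⟨w', hw', hwN'⟩⟩, ⟨b', hb'⟩⟩ he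
      have he' : a * w * b = a' * w' * b' := congrArg Subtype.val he
      obtain ⟨r1, r2, r3⟩ := h.decomp_unique ha hb ha' hb' hw hw' hwN he'
      subst r1 r2 r3
      rfl
    · rintro ⟨g, hg⟩
      obtain ⟨a, ha, w, hw, hwN, b, hb, rfl⟩ := h.decomp hg
      exact ⟨⟨⟨⟨a, ha⟩, ⟨w, hw, hwN⟩⟩, ⟨b, hb⟩⟩, rfl⟩
  rw [h1, h2, h3]
  ring

theorem card_invol (h : TIS M z) : Nat.card G + Nat.card M ^ 2 =
    Nat.card ↥(Subgroup.normalizer (M : Set G)) +
      Nat.card M * Nat.card {g : G // orderOf g = 2} := by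
  have h1 : Nat.card G = Nat.card ↥(Subgroup.normalizer (M : Set G)) +
      Nat.card {g : G // g ∉ Subgroup.normalizer (M : Set G)} :=
    card_split' (fun g : G => g ∈ Subgroup.normalizer (M : Set G))
  have h2 : Nat.card {g : G // orderOf g = 2} =
      Nat.card {g : G // orderOf g = 2 ∧ g ∈ Subgroup.normalizer (M : Set G)} +
      Nat.card {g : G // orderOf g = 2 ∧ g ∉ Subgroup.normalizer (M : Set G)} := card_split _ _
  have h3 : Nat.card {g : G // orderOf g = 2 ∧ g ∈ Subgroup.normalizer (M : Set G)} =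
      Nat.card M := by
    symm
    apply Nat.card_congr
    refine Equiv.ofBijective (fun m => ⟨m.1 * z, h.tic.orderOf_mul_z m.2,
      Subgroup.mul_mem _ (le_N m.2) h.tic.zN⟩) ⟨?_, ?_⟩
    · rintro ⟨m, hm⟩ ⟨m', hm'⟩ he
      have he' : m * z = m' * z := congrArg Subtype.val he
      exact Subtype.ext (mul_right_cancel he')
    · rintro ⟨y, hy, hyN⟩
      obtain ⟨m, hm, rfl⟩ := h.tic.invol_eq hyN hy
      exact ⟨⟨m, hm⟩, rfl⟩
  have h4 : Nat.card {g : G // g ∉ Subgroup.normalizer (M : Set G)} =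
      Nat.card M * Nat.card {g : G // orderOf g = 2 ∧ g ∉ Subgroup.normalizer (M : Set G)} := by
    rw [← Nat.card_prod]
    symm
    apply Nat.card_congr
    refine Equiv.ofBijective (fun p => ⟨p.1.1 * p.2.1, ?_⟩) ⟨?_, ?_⟩
    · intro hcon
      apply p.2.2.2
      have e : p.2.1 = p.1.1⁻¹ * (p.1.1 * p.2.1) := by group
      rw [e]
      exact Subgroup.mul_mem _ (Subgroup.inv_mem _ (le_N p.1.2)) hcon
    · rintro ⟨⟨m, hm⟩, ⟨u, hu, huN⟩⟩ ⟨⟨m', hm'⟩, ⟨u', hu', huN'⟩⟩ he
      have he' : m * u = m' * u' := congrArg Subtype.val he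
      have e1 : u * u'⁻¹ = m⁻¹ * m' := by
        calc u * u'⁻¹ = m⁻¹ * (m * u) * u'⁻¹ := by group
          _ = m⁻¹ * (m' * u') * u'⁻¹ := by rw [he']
          _ = m⁻¹ * m' := by group
      have e2 : u = u' := h.tic.invol_unique hu hu' huN (by
        rw [e1]; exact M.mul_mem (M.inv_mem hm) hm')
      subst e2
      have e3 : m = m' := mul_right_cancel he'
      subst e3
      rfl
    · rintro ⟨g, hg⟩
      obtain ⟨m, hm, ho⟩ := h.star g hg
      refine ⟨⟨⟨m⁻¹, M.inv_mem hm⟩, ⟨m * g, ho, ?_⟩⟩, ?_⟩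
      · intro hcon
        apply hg
        have e : g = m⁻¹ * (m * g) := by group
        rw [e]
        exact Subgroup.mul_mem _ (Subgroup.inv_mem _ (le_N hm)) hcon
      · apply Subtype.ext
        show m⁻¹ * (m * g) = g
        group
  rw [h1, h2, h3, h4]
  ring

end Cfsg.Agent.Lib.Helper3.Bend
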